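import Groth.Agent.Lib.LiftFib11.HomBC
import Groth.Agent.Lib.CBC10.TensorSec
import Groth.Agent.Lib.ModLimH13.Sections
import Groth.Agent.Lib.DirImg11.Basic
import Groth.Agent.Lib.PushFin12.Basic
import Groth.Agent.Lib.CohFound.ModQuot
import Groth.Agent.Lib.TensorNat17.Basic
import Groth.Agent.Lib.TensorMod.Invertible
import Groth.Prelude.Def_PerfAux
import Groth.Prelude.Def_Mor2

/-!
# The resolution property descends along finite locally free surjections
-/

set_option autoImplicit false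
set_option linter.style.haveILetI false
set_option backward.isDefEq.respectTransparency false

universe u

open CategoryTheory CategoryTheory.Limits AlgebraicGeometry TopologicalSpace TensorProduct

noncomputable section

namespace Groth.Agent.ResDesc11

open Groth.Agent.M1 Groth.Agent.P1Split

variable {X Y : Scheme.{u}}

/-- A module with a basis over an open is free there. -/
theorem nonempty_restrict_iso_free {M : Y.Modules} {D : Y.Opens} {r : ℕ} {e : Fin r → Γ(M, D)}
    (he : IsBas M D e) : Nonempty (M.restrict D.ι ≅ FlatMod.freeMod (D : Scheme.{u}) r) := by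
  let e' : Fin r → Γ(M.restrict D.ι, ⊤) := fun i => M1.mres M (D.ι_image_le ⊤) (e i)
  have he' : IsBas (M.restrict D.ι) ⊤ e' := by
    intro V hV
    have key : (fun c : Fin r → Γ((D : Scheme.{u}), V) => ∑ i, c i • M1.mres (M.restrict D.ι) hV (e' i)) =
        (fun c : Fin r → Γ(Y, D.ι ''ᵁ V) => ∑ i, c i • M1.mres M (D.ι_image_le V) (e i)) ∘
          fun c i => ((D.ι.appIso V).inv (c i) : Γ(Y, D.ι ''ᵁ V)) := by
      funext c
      refine Finset.sum_congr rfl fun i _ => ?_
      show ((D.ι.appIso V).inv (c i) : Γ(Y, D.ι ''ᵁ V)) •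
        M1.mres M (Scheme.Hom.image_mono _ hV) (M1.mres M (D.ι_image_le ⊤) (e i)) = _
      rw [mres_mres]
    rw [key]
    exact (he _ _).comp ((Equiv.piCongrRight fun _ => Equiv.ofBijective _
      ((ConcreteCategory.isIso_iff_bijective (D.ι.appIso V).inv).1 inferInstance)).bijective)
  let φ : FlatMod.freeMod (D : Scheme.{u}) r ⟶ M.restrict D.ι := Sigma.desc fun i => secHom (e' i)
  have hb := isBas_coprod (fun _ : Fin r => Coh.structureModule (D : Scheme.{u})) (fun _ => one ⊤)
    fun _ => isGen_one ⊤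
  haveI : IsIso φ := isIso_of_bases φ (fun _ : PUnit.{1} => ⊤) iSup_const (fun _ => _) (fun _ => e')
    (fun _ => hb) (fun _ => he') fun _ i => by
      show (Sigma.ι (fun _ : Fin r => Coh.structureModule (D : Scheme.{u})) i ≫ φ).app ⊤ (one ⊤) = e' i
      rw [Sigma.ι_desc, secHom_app_one]
  exact ⟨(asIso φ).symm⟩

/-- A module with bases locally is finite locally free. -/
theorem isFinLocFree_of_isBas {M : Y.Modules}
    (h : ∀ y : Y, ∃ (r : ℕ) (D : Y.Opens) (e : Fin r → Γ(M, D)), y ∈ D ∧ IsBas M D e) :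
    FlatMod.IsFinLocFree M := fun y => by
  obtain ⟨r, D, e, hy, he⟩ := h y
  exact ⟨D, r, hy, nonempty_restrict_iso_free he⟩

/-- The dual of a finite locally free module is finite locally free. -/
theorem isFinLocFree_homMod_unit {P : Y.Modules} (hP : FlatMod.IsFinLocFree P) :
    FlatMod.IsFinLocFree (M2.homMod P (Coh.structureModule Y)) := isFinLocFree_of_isBas fun y => by
  obtain ⟨n, D, e, hy, he⟩ := PushUnit3.exists_isBas_nhd' hP y
  obtain ⟨φ, hφ, -⟩ := LiftFib11.exists_isBas_homMod he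
    (isBas_of_isGen (isGen_one D : Twist.IsGen (Coh.structureModule Y) D (one D)))
  exact ⟨_, D, φ, hy, hφ⟩

/-- The structure sheaf is finite locally free. -/
theorem isFinLocFree_structureModule (Y : Scheme.{u}) : FlatMod.IsFinLocFree (Coh.structureModule Y) :=
  isFinLocFree_of_isBas fun y => ⟨1, ⊤, _, trivial, isBas_of_isGen (isGen_one ⊤)⟩

variable (f : X ⟶ Y)

/-- The direct image of a finite locally free module along a finite locally free morphism. -/
theorem isFinLocFree_push (hf : Mor2.IsFinLocFree f) {E : X.Modules} (hE : FlatMod.IsFinLocFree E) :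
    FlatMod.IsFinLocFree ((Scheme.Modules.pushforward f).obj E) := by
  obtain ⟨hfin, hfl, hfp⟩ := hf
  obtain ⟨hEfp, hEfree⟩ := (M1.isFinLocFree_iff _).1 hE
  have hEq := M1.isFP_isQCoh hEfp
  have hFP := (PushFin12.isFP_iff f E hEq).1 hEfp
  refine (M1.isFinLocFree_iff _).2 ⟨hFP, fun y => ?_⟩
  obtain ⟨U, hU, hy, -⟩ := exists_isAffineOpen_mem_and_subset (X := Y) (x := y) (U := ⊤) trivial
  have h2 : (f.app U).hom.Flat := by
    have := Flat.flat_appLE f hU (hU.preimage f) le_rfl
    rwa [← Scheme.Hom.app_eq_appLE] at this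
  letI := (f.app U).hom.toAlgebra
  letI : Module Γ(Y, U) Γ(E, f ⁻¹ᵁ U) := Module.compHom _ (f.app U).hom
  haveI : IsScalarTower Γ(Y, U) Γ(X, f ⁻¹ᵁ U) Γ(E, f ⁻¹ᵁ U) :=
    IsScalarTower.of_algebraMap_smul fun _ _ => rfl
  haveI : Module.Flat Γ(Y, U) Γ(X, f ⁻¹ᵁ U) := h2
  haveI : Module.Flat Γ(X, f ⁻¹ᵁ U) Γ(E, f ⁻¹ᵁ U) :=
    PushFin12.flat_sections_of_flat_stalks hEq (hU.preimage f) fun x => haveI := hEfree x; inferInstance
  haveI : Module.Flat Γ(Y, U) Γ((Scheme.Modules.pushforward f).obj E, U) :=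
    Module.Flat.trans Γ(Y, U) Γ(X, f ⁻¹ᵁ U) Γ(E, f ⁻¹ᵁ U)
  exact M1.free_stalk_of_flat hFP y (PushFin12.flat_stalk_of_flat_sections (M1.isFP_isQCoh hFP) hU hy)

variable (M : Y.Modules)

/-- Sections times functions upstairs. -/
def projBiMap : M2.BiMap M ((Scheme.Modules.pushforward f).obj (Coh.structureModule X))
    ((Scheme.Modules.pushforward f).obj ((Scheme.Modules.pullback f).obj M)) where
  f U s c := ((show Γ(X, f ⁻¹ᵁ U) from c) • M2.pullSec f M s :
    Γ((Scheme.Modules.pullback f).obj M, f ⁻¹ᵁ U))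
  add_left U s s' c := by rw [M2.pullSec_add, smul_add]
  smul_left U r s c := by
    rw [M2.pullSec_smul, smul_comm]
    rfl
  add_right U s c c' := by
    show ((show Γ(X, f ⁻¹ᵁ U) from c) + (show Γ(X, f ⁻¹ᵁ U) from c')) •
      (M2.pullSec f M s : Γ((Scheme.Modules.pullback f).obj M, f ⁻¹ᵁ U)) = _
    rw [add_smul]
  smul_right U r s c := by
    show (f.app U r * (show Γ(X, f ⁻¹ᵁ U) from c)) •
      (M2.pullSec f M s : Γ((Scheme.Modules.pullback f).obj M, f ⁻¹ᵁ U)) = _
    rw [mul_smul]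
    rfl
  compat {U V} h s c := by
    show (show Γ(X, f ⁻¹ᵁ V) from ores (f.preimage_mono h) (show Γ(X, f ⁻¹ᵁ U) from c)) •
        M2.pullSec f M (M1.mres M h s) =
      M1.mres ((Scheme.Modules.pullback f).obj M) (f.preimage_mono h)
        ((show Γ(X, f ⁻¹ᵁ U) from c) • M2.pullSec f M s)
    rw [mres_smul, ← PicDesc21.pullSec_mres]

/-- The projection map `M ⊗ f_* O ⟶ f_* f^* M`. -/
def proj : CohB1.tensorMod M ((Scheme.Modules.pushforward f).obj (Coh.structureModule X)) ⟶
    (Scheme.Modules.pushforward f).obj ((Scheme.Modules.pullback f).obj M) :=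
  M2.mkHom (projBiMap f M)

theorem proj_tsec {U : Y.Opens} (s : Γ(M, U))
    (c : Γ((Scheme.Modules.pushforward f).obj (Coh.structureModule X), U)) :
    (proj f M).app U (M2.tsec M _ s c) = ((show Γ(X, f ⁻¹ᵁ U) from c) • M2.pullSec f M s :
      Γ((Scheme.Modules.pullback f).obj M, f ⁻¹ᵁ U)) :=
  M2.mkHom_tsec _ _ _

/-- The projection formula for an affine morphism. -/
theorem isIso_proj [IsAffineHom f] [hM : Coh.IsQCoh M] : IsIso (proj f M) := by
  let P := (Scheme.Modules.pushforward f).obj (Coh.structureModule X)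
  have hP : Coh.IsQCoh P := PushFin12.isQCoh_pushforward f _ (M1.isQCoh_structureModule X)
  rw [M1.isIso_iff_stalk]
  have hbij : ∀ U : Y.Opens, IsAffineOpen U → Function.Bijective ((proj f M).app U) := by
    intro U hU
    obtain ⟨Φ, hΦ⟩ := ModLimH13.exists_pullEquiv f M (le_refl (f ⁻¹ᵁ U)) hU (hU.preimage f)
    letI := (f.appLE U (f ⁻¹ᵁ U) le_rfl).hom.toAlgebra
    have halg : ∀ r : Γ(Y, U), algebraMap Γ(Y, U) Γ(X, f ⁻¹ᵁ U) r = f.app U r := fun r =>
      ConcreteCategory.congr_hom (Scheme.Hom.app_eq_appLE f).symm r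
    let bal : Γ(X, f ⁻¹ᵁ U) →+ Γ(M, U) →+ Γ(CohB1.tensorMod M P, U) :=
      AddMonoidHom.mk' (fun c => AddMonoidHom.mk' (fun s => M2.tsec M P s (show Γ(P, U) from c))
        fun s s' => M2.tsec_add_left s s' _) fun c c' => AddMonoidHom.ext fun s =>
          M2.tsec_add_right s (show Γ(P, U) from c) (show Γ(P, U) from c')
    let θ : Γ(X, f ⁻¹ᵁ U) ⊗[Γ(Y, U)] Γ(M, U) →+ Γ(CohB1.tensorMod M P, U) :=
      TensorProduct.liftAddHom bal fun r c s => by
        show M2.tsec M P s (show Γ(P, U) from r • c) = M2.tsec M P (r • s) (show Γ(P, U) from c)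
        rw [M2.tsec_smul_left, ← M2.tsec_smul_right, Algebra.smul_def, halg]
        rfl
    have hθ : Function.Surjective θ := by
      intro z
      obtain ⟨w, rfl⟩ := (CBC10.bijective_secTensor M P hM hP hU).2 z
      induction w using TensorProduct.induction_on with
      | zero => exact ⟨0, by rw [map_zero, map_zero]⟩
      | add a b ha hb =>
        obtain ⟨a', ha'⟩ := ha
        obtain ⟨b', hb'⟩ := hb
        exact ⟨a' + b', by rw [map_add, map_add, ha', hb']⟩
      | tmul s c =>
        refine ⟨(show Γ(X, f ⁻¹ᵁ U) from c) ⊗ₜ s, ?_⟩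
        rw [CBC10.secTensor_tmul]
        exact TensorProduct.liftAddHom_tmul _ _ _ _
    have hcomp : ∀ w, ((proj f M).app U (θ w) : Γ((Scheme.Modules.pullback f).obj M, f ⁻¹ᵁ U)) = Φ w := by
      intro w
      induction w using TensorProduct.induction_on with
      | zero => simp only [map_zero]
      | add a b ha hb =>
        simp only [map_add]
        exact congrArg₂ (· + ·) ha hb
      | tmul c s =>
        rw [hΦ, TensorProduct.liftAddHom_tmul]
        refine (proj_tsec f M s _).trans ?_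
        rw [show ModLimH13.res' f M (le_refl (f ⁻¹ᵁ U)) s = M2.pullSec f M s from mres_id _ _ _]
    refine ⟨fun a b h => ?_, fun z => ?_⟩
    · obtain ⟨v, rfl⟩ := hθ a
      obtain ⟨w, rfl⟩ := hθ b
      exact congrArg θ (Φ.injective ((hcomp v).symm.trans (h.trans (hcomp w))))
    · exact ⟨θ (Φ.symm z), (hcomp _).trans (Φ.apply_symm_apply z)⟩
  intro x
  refine ⟨?_, ?_⟩
  · rw [injective_iff_map_eq_zero ((stalkAb x).map (proj f M)).hom]
    intro b hb
    obtain ⟨W, hxW, s, rfl⟩ := (CohB1.tensorMod M P).presheaf.exists_germ_eq b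
    rw [germ_naturality] at hb
    obtain ⟨Z, hxZ, i₁, i₂, hz⟩ := ((Scheme.Modules.pushforward f).obj _).presheaf.germ_eq x hxW hxW _ 0
      (hb.trans (map_zero _).symm)
    obtain ⟨U, hU, hxU, hUZ⟩ := exists_isAffineOpen_mem_and_subset (X := Y) (x := x) (U := Z) hxZ
    have h0 : (proj f M).app U (M1.mres _ (le_trans hUZ i₁.le) s) = 0 := by
      rw [app_mres, ← mres_mres _ i₁.le hUZ]
      refine (congrArg (M1.mres _ hUZ) (hz.trans (map_zero _))).trans (map_zero _)
    rw [← germ_mres (CohB1.tensorMod M P) (le_trans hUZ i₁.le) hxU s,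
      (hbij U hU).1 (h0.trans (map_zero _).symm)]
    exact map_zero _
  · intro b
    obtain ⟨W, hxW, s, rfl⟩ := ((Scheme.Modules.pushforward f).obj _).presheaf.exists_germ_eq b
    obtain ⟨U, hU, hxU, hUW⟩ := exists_isAffineOpen_mem_and_subset (X := Y) (x := x) (U := W) hxW
    obtain ⟨t, ht⟩ := (hbij U hU).2 (M1.mres _ hUW s)
    refine ⟨(CohB1.tensorMod M P).presheaf.germ U x hxU t, ?_⟩
    rw [germ_naturality, ht, germ_mres]

/-- Evaluation on the direct image of the structure sheaf is surjective. -/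
theorem epi_evT (hf : Mor2.IsFinLocFree f) [Surjective f] :
    Epi (LiftFib11.evT ((Scheme.Modules.pushforward f).obj (Coh.structureModule X)) (Coh.structureModule Y)) := by
  let P := (Scheme.Modules.pushforward f).obj (Coh.structureModule X)
  have hP : FlatMod.IsFinLocFree P := isFinLocFree_push f hf
    (isFinLocFree_structureModule X)
  rw [epi_iff_locally_surjective]
  intro U t y hy
  obtain ⟨n, D, e, hyD, he⟩ := PushUnit3.exists_isBas_nhd' hP y
  have hn : n ≠ 0 := by
    rintro rfl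
    obtain ⟨x, rfl⟩ := f.surjective y
    obtain ⟨c, hc⟩ := (he D le_rfl).2 (show Γ(P, D) from (1 : Γ(X, f ⁻¹ᵁ D)))
    have h1 : (1 : Γ(X, f ⁻¹ᵁ D)) = 0 := hc.symm.trans (Finset.sum_eq_zero fun i _ => i.elim0)
    exact one_ne_zero (α := X.presheaf.stalk x)
      ((map_one (X.presheaf.germ (f ⁻¹ᵁ D) x hyD).hom).symm.trans
        ((congrArg (X.presheaf.germ (f ⁻¹ᵁ D) x hyD) h1).trans (map_zero _)))
  obtain ⟨k, rfl⟩ := Nat.exists_eq_succ_of_ne_zero hn
  obtain ⟨φ, hφ⟩ := (LiftFib11.bijective_eval (Coh.structureModule Y) he (inf_le_right : U ⊓ D ≤ D)).2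
    (Pi.single 0 (M1.mres (Coh.structureModule Y) (inf_le_left : U ⊓ D ≤ U) t))
  refine ⟨U ⊓ D, inf_le_left, ⟨hy, hyD⟩, M2.tsec P _ (M1.mres P inf_le_right (e 0)) φ, ?_⟩
  rw [LiftFib11.evT_tsec]
  have h := congrFun hφ 0
  rw [Pi.single_eq_same] at h
  exact h

/-- The resolution property descends along finite locally free surjections. -/
theorem hasResolutionProperty (hf : Mor2.IsFinLocFree f) [Surjective f]
    (hX : PerfAux.HasResolutionProperty X) : PerfAux.HasResolutionProperty Y := by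
  intro M hM hMft
  haveI : IsFinite f := hf.1
  haveI := hM
  have hpb : Coh.IsQCoh ((Scheme.Modules.pullback f).obj M) := M1.isQCoh_pullback f hM
  obtain ⟨E, π, hE, hπ⟩ := hX _ hpb (M1.isFT_pullback f hMft)
  haveI := hπ
  let P := (Scheme.Modules.pushforward f).obj (Coh.structureModule X)
  let D := M2.homMod P (Coh.structureModule Y)
  have hP : FlatMod.IsFinLocFree P := isFinLocFree_push f hf
    (isFinLocFree_structureModule X)
  haveI := isIso_proj f M
  haveI := epi_evT f hf
  haveI : Epi ((Scheme.Modules.pushforward f).map π) :=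
    DirImg11.epi_pushforward_map (f := f) (M1.isFP_isQCoh ((M1.isFinLocFree_iff _).1 hE).1) hpb π
  let v := (Scheme.Modules.pushforward f).map π ≫ inv (proj f M)
  haveI : Epi v := inferInstance
  haveI := CohFound.epi_tensorMap v D
  haveI := CohFound.epi_tensorMap (LiftFib11.evT P (Coh.structureModule Y)) M
  refine ⟨CohB1.tensorMod ((Scheme.Modules.pushforward f).obj E) D,
    M2.tensorMap v (𝟙 D) ≫ ((M2.tensorAssoc M P D).hom ≫ ((M2.tensorComm M _).hom ≫
      (M2.tensorMap (LiftFib11.evT P (Coh.structureModule Y)) (𝟙 M) ≫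
        ((M2.tensorComm _ M).hom ≫ (M2.tensorRUnit M).hom)))),
    M2.isFinLocFree_tensor (isFinLocFree_push f hf hE) (isFinLocFree_homMod_unit hP), ?_⟩
  infer_instance

end Groth.Agent.ResDesc11
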