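import Groth.Agent.Lib.ResDesc11.Basic
import Mathlib.RingTheory.Ideal.Quotient.Operations
import Mathlib.LinearAlgebra.Matrix.NonsingularInverse
import Mathlib.LinearAlgebra.Matrix.ToLin

/-!
# A locally free module is free near finitely many points of an affine open
-/

set_option autoImplicit false
set_option linter.style.haveILetI false
set_option backward.isDefEq.respectTransparency false

universe u

open CategoryTheory CategoryTheory.Limits AlgebraicGeometry TopologicalSpace

noncomputable section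

namespace Groth.Agent.ResDesc11

open Groth.Agent.M1 Groth.Agent.P1Split

variable {Y : Scheme.{u}}

/-- Elements congruent to a basis modulo the maximal ideal form a basis. -/
theorem bijective_of_congr {R N : Type u} [CommRing R] [IsLocalRing R] [AddCommGroup N] [Module R N] {r : ℕ}
    (b m : Fin r → N) (hb : Function.Bijective fun c : Fin r → R => ∑ i, c i • b i)
    (h : ∀ i, m i - b i ∈ IsLocalRing.maximalIdeal R • (⊤ : Submodule R N)) :
    Function.Bijective fun c : Fin r → R => ∑ i, c i • m i := by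
  classical
  let L : (Fin r → R) ≃ₗ[R] N := LinearEquiv.ofBijective (Fintype.linearCombination R b) (by
    convert hb using 1
    funext c
    rfl)
  have hL : ∀ c, L c = ∑ i, c i • b i := fun c => rfl
  let A : Matrix (Fin r) (Fin r) R := fun i => L.symm (m i)
  have hA : ∀ i, A i - Pi.single i 1 ∈ IsLocalRing.maximalIdeal R • (⊤ : Submodule R (Fin r → R)) := fun i => by
    have e : A i - Pi.single i 1 = L.symm (m i - b i) := by
      rw [map_sub]
      congr 1
      rw [LinearEquiv.eq_symm_apply, hL, Finset.sum_eq_single i (fun j _ hj => by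
        rw [Pi.single_eq_of_ne hj, zero_smul]) (by simp), Pi.single_eq_same, one_smul]
    rw [e]
    have h1 := Submodule.mem_map_of_mem (f := L.symm.toLinearMap) (h i)
    rw [Submodule.map_smul'', Submodule.map_top, LinearEquiv.range] at h1
    exact h1
  have hres : A.map (IsLocalRing.residue R) = 1 := by
    ext i j
    have h1 := Submodule.mem_map_of_mem (f := LinearMap.proj j) (hA i)
    rw [Submodule.map_smul''] at h1
    have h2 : A i j - (Pi.single i (1 : R) : Fin r → R) j ∈ IsLocalRing.maximalIdeal R :=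
      (Submodule.smul_le.2 fun c hc x _ => Ideal.mul_mem_right x _ hc) h1
    rw [Matrix.map_apply, Matrix.one_apply]
    rw [← IsLocalRing.residue_eq_zero_iff, map_sub, sub_eq_zero] at h2
    rw [h2]
    split_ifs with hij
    · subst hij; rw [Pi.single_eq_same, map_one]
    · rw [Pi.single_eq_of_ne (Ne.symm hij), map_zero]
  have hu : IsUnit A := by
    rw [Matrix.isUnit_iff_isUnit_det]
    refine isUnit_of_map_unit (IsLocalRing.residue R) _ ?_
    rw [RingHom.map_det, show (IsLocalRing.residue R).mapMatrix A = 1 from hres, Matrix.det_one]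
    exact isUnit_one
  have key : (fun c : Fin r → R => ∑ i, c i • m i) = L ∘ A.vecMul := by
    funext c
    have e : Matrix.vecMul c A = ∑ i, c i • A i := by
      funext j
      simp [Matrix.vecMul, dotProduct, Finset.sum_apply]
    simp only [Function.comp_apply, e, map_sum, map_smul, A, LinearEquiv.apply_symm_apply]
  rw [key]
  refine L.bijective.comp ⟨fun c c' hc => ?_, Matrix.vecMul_surjective_iff_isUnit.2 hu⟩
  have h' := congrArg (fun v => Matrix.vecMul v A⁻¹) hc
  simpa only [Matrix.vecMul_vecMul, Matrix.mul_nonsing_inv A ((Matrix.isUnit_iff_isUnit_det A).1 hu),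
    Matrix.vecMul_one] using h'

/-- The locus where sections form a basis is open. -/
theorem exists_isBas_of_stalk {E : Y.Modules} {r : ℕ} (hE : FlatMod.IsFinLocFreeOfRank r E) {V : Y.Opens}
    (m : Fin r → Γ(E, V)) {x : Y} (hx : x ∈ V)
    (hb : Function.Bijective fun c : Fin r → Y.presheaf.stalk x =>
      ∑ i, c i • (E.presheaf.germ V x hx (m i) : E.presheaf.stalk x)) :
    ∃ (W : Y.Opens) (h : W ≤ V), x ∈ W ∧ IsBas E W fun i => M1.mres E h (m i) := by
  classical
  obtain ⟨D₀, g₀, hxD₀, hg₀⟩ := P1Split.exists_isBas_nhd hE x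
  let D := D₀ ⊓ V
  have hxD : x ∈ D := ⟨hxD₀, hx⟩
  let g := fun i => M1.mres E (inf_le_left : D ≤ D₀) (g₀ i)
  have hg : IsBas E D g := hg₀.mres _
  choose a ha using fun i => (hg D le_rfl).2 (M1.mres E (inf_le_right : D ≤ V) (m i))
  simp only [mres_id] at ha
  let A : Matrix (Fin r) (Fin r) Γ(Y, D) := a
  let Ax := A.map (Y.presheaf.germ D x hxD)
  have hst : (fun c : Fin r → Y.presheaf.stalk x =>
      ∑ i, c i • (E.presheaf.germ V x hx (m i) : E.presheaf.stalk x)) =
      (fun c : Fin r → Y.presheaf.stalk x => ∑ j, c j • (E.presheaf.germ D x hxD (g j) : E.presheaf.stalk x)) ∘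
        Ax.vecMul := by
    funext c
    simp only [Function.comp_apply, Matrix.vecMul, dotProduct, Finset.sum_smul, mul_smul]
    rw [Finset.sum_comm]
    refine Finset.sum_congr rfl fun i _ => ?_
    rw [← Finset.smul_sum, ← germ_mres E (inf_le_right : D ≤ V) hxD, ← ha i, germ_sum_smul]
    rfl
  rw [hst, Function.Bijective.of_comp_iff' (hg.stalk hxD)] at hb
  have hu : IsUnit (Y.presheaf.germ D x hxD A.det) := by
    rw [RingHom.map_det]
    exact (Matrix.isUnit_iff_isUnit_det Ax).1 (Matrix.vecMul_surjective_iff_isUnit.1 hb.2)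
  refine ⟨Y.basicOpen A.det, (Y.basicOpen_le _).trans inf_le_right, by rwa [Scheme.mem_basicOpen], fun W hW => ?_⟩
  have hWD : W ≤ D := hW.trans (Y.basicOpen_le _)
  let AW := A.map (ores hWD)
  have hAW : IsUnit AW.det := by
    have h1 := (RingedSpace.isUnit_res_basicOpen Y.toRingedSpace A.det).map (ores hW).hom
    change IsUnit (ores hW (ores (Y.basicOpen_le A.det) A.det)) at h1
    rw [ores_ores] at h1
    rwa [show ores hWD A.det = AW.det from RingHom.map_det (ores hWD).hom A] at h1
  have hsq : (fun c : Fin r → Γ(Y, W) =>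
      ∑ i, c i • M1.mres E hW (M1.mres E ((Y.basicOpen_le A.det).trans inf_le_right) (m i))) =
      (fun c : Fin r → Γ(Y, W) => ∑ j, c j • M1.mres E hWD (g j)) ∘ AW.vecMul := by
    funext c
    simp only [Function.comp_apply, Matrix.vecMul, dotProduct, Finset.sum_smul, mul_smul]
    rw [Finset.sum_comm]
    refine Finset.sum_congr rfl fun i _ => ?_
    rw [← Finset.smul_sum, mres_mres, ← mres_mres E (inf_le_right : D ≤ V) hWD, ← ha i, mres_sum_smul]
    rfl
  rw [hsq]
  refine (hg W hWD).comp ⟨fun c c' hc => ?_,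
    Matrix.vecMul_surjective_iff_isUnit.2 ((Matrix.isUnit_iff_isUnit_det AW).2 hAW)⟩
  have h' := congrArg (fun v => Matrix.vecMul v AW⁻¹) hc
  simpa only [Matrix.vecMul_vecMul, Matrix.mul_nonsing_inv AW hAW, Matrix.vecMul_one] using h'

/-- Finitely many closed points of an affine open are separated by functions. -/
theorem exists_separating {A : Type u} [CommRing A] {ι : Type*} [Finite ι] (P : ι → Ideal A)
    (hP : ∀ i, (P i).IsMaximal) (hinj : Function.Injective P) :
    ∃ e : ι → A, ∀ i, e i - 1 ∈ P i ∧ ∀ j, j ≠ i → e i ∈ P j := by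
  classical
  haveI := Fintype.ofFinite ι
  refine ⟨fun i => (Ideal.exists_forall_sub_mem_ideal
    (fun a b hab => Ideal.isCoprime_iff_sup_eq.2 ((hP a).coprime_of_ne (hP b) fun h => hab (hinj h)))
    (Pi.single i (1 : A))).choose, fun i => ⟨?_, fun j hj => ?_⟩⟩
  · have := (Ideal.exists_forall_sub_mem_ideal
      (fun a b hab => Ideal.isCoprime_iff_sup_eq.2 ((hP a).coprime_of_ne (hP b) fun h => hab (hinj h)))
      (Pi.single i (1 : A))).choose_spec i
    rwa [Pi.single_eq_same] at this
  · have := (Ideal.exists_forall_sub_mem_ideal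
      (fun a b hab => Ideal.isCoprime_iff_sup_eq.2 ((hP a).coprime_of_ne (hP b) fun h => hab (hinj h)))
      (Pi.single i (1 : A))).choose_spec j
    rwa [Pi.single_eq_of_ne hj, sub_zero] at this

/-- A locally free module of rank `r` is free near finitely many points of an affine open. -/
theorem exists_free_near_finite {E : Y.Modules} {r : ℕ} (hE : FlatMod.IsFinLocFreeOfRank r E)
    {Z : Set Y} (hZ : Z.Finite) {V : Y.Opens} (hV : IsAffineOpen V) (hZV : Z ⊆ V) :
    ∃ U : Y.Opens, Z ⊆ U ∧ U ≤ V ∧ Nonempty (E.restrict U.ι ≅ FlatMod.freeMod (U : Scheme.{u}) r) := by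
  classical
  let A := Γ(Y, V)
  have hfl : FlatMod.IsFinLocFree E := fun x =>
    let ⟨U, hU, e⟩ := hE x
    ⟨U, r, hU, e⟩
  haveI : Coh.IsQCoh E := M1.isFP_isQCoh ((M1.isFinLocFree_iff E).1 hfl).1
  -- closed specializations
  have hspec : ∀ z : Z, ∃ P : PrimeSpectrum A, P.asIdeal.IsMaximal ∧ z.1 ⤳ hV.fromSpec P := fun z => by
    obtain ⟨P, hP, hle⟩ := Ideal.exists_le_maximal _ (hV.primeIdealOf ⟨z.1, hZV z.2⟩).2.ne_top
    refine ⟨⟨P, hP.isPrime⟩, hP, ?_⟩
    have h := ((PrimeSpectrum.le_iff_specializes _ (⟨P, hP.isPrime⟩ : PrimeSpectrum A)).1 hle).map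
      hV.fromSpec.continuous
    rwa [hV.fromSpec_primeIdealOf] at h
  choose P hPmax hPz using hspec
  haveI := hZ.to_subtype
  let Q := Set.range P
  haveI : Finite Q := (Set.finite_range P).to_subtype
  obtain ⟨e, he⟩ := exists_separating (fun q : Q => q.1.asIdeal)
    (fun q => by obtain ⟨z, hz⟩ := q.2; exact hz ▸ hPmax z)
    (fun q q' h => Subtype.ext (PrimeSpectrum.ext h))
  haveI := Fintype.ofFinite Q
  have hyV : ∀ q : Q, hV.fromSpec q.1 ∈ V := fun q => hV.range_fromSpec.le ⟨q.1, rfl⟩
  have hqy : ∀ q : Q, hV.primeIdealOf ⟨hV.fromSpec q.1, hyV q⟩ = q.1 := fun q =>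
    hV.fromSpec.isOpenEmbedding.injective (hV.fromSpec_primeIdealOf _)
  -- targets
  have htgt : ∀ q : Q, ∃ (m : Fin r → Γ(E, V)), Function.Bijective fun c : Fin r → Y.presheaf.stalk (hV.fromSpec q.1) =>
      ∑ i, c i • (E.presheaf.germ V _ (hyV q) (m i) : E.presheaf.stalk (hV.fromSpec q.1)) := fun q => by
    let y := hV.fromSpec q.1
    obtain ⟨D, g, hyD, hg⟩ := P1Split.exists_isBas_nhd hE y
    choose t m ht hm using fun i => M1.exists_germ_smul_eq E hV (hyV q) (E.presheaf.germ D y hyD (g i))
    refine ⟨m, ?_⟩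
    rw [show (fun c : Fin r → Y.presheaf.stalk y => ∑ i, c i • (E.presheaf.germ V y (hyV q) (m i) : E.presheaf.stalk y)) =
      (fun c : Fin r → Y.presheaf.stalk y => ∑ i, c i • (E.presheaf.germ D y hyD (g i) : E.presheaf.stalk y)) ∘
        (fun c i => c i * Y.presheaf.germ V y (hyV q) (t i)) from funext fun c => by
      refine Finset.sum_congr rfl fun i _ => ?_
      rw [← hm, mul_smul]]
    exact (hg.stalk hyD).comp (Equiv.piCongrRight fun i => (ht i).unit.mulRight).bijective
  choose m hm using htgt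
  let mm : Fin r → Γ(E, V) := fun i => ∑ q, e q • m q i
  have hmm : ∀ q : Q, Function.Bijective fun c : Fin r → Y.presheaf.stalk (hV.fromSpec q.1) =>
      ∑ i, c i • (E.presheaf.germ V _ (hyV q) (mm i) : E.presheaf.stalk (hV.fromSpec q.1)) := fun q => by
    let y := hV.fromSpec q.1
    have hmax : ∀ a ∈ q.1.asIdeal, Y.presheaf.germ V y (hyV q) a ∈ IsLocalRing.maximalIdeal _ := fun a ha hu => by
      have := (M1.isUnit_germ_iff hV (hyV q) a).1 hu
      rw [hqy] at this
      exact this ha
    refine bijective_of_congr _ _ (hm q) fun i => ?_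
    simp only [mm, map_sum, M1.germ_smul]
    rw [← Finset.add_sum_erase _ _ (Finset.mem_univ q), add_sub_right_comm]
    refine Submodule.add_mem _ ?_ (Submodule.sum_mem _ fun q' hq' => ?_)
    · have h1 := hmax _ (he q).1
      rw [map_sub, map_one] at h1
      have h2 := Submodule.smul_mem_smul h1
        (Submodule.mem_top (R := Y.presheaf.stalk y) (x := (E.presheaf.germ V y (hyV q) (m q i) : E.presheaf.stalk y)))
      rw [sub_smul, one_smul] at h2
      rw [M1.germ_smul]
      exact h2
    · rw [M1.germ_smul]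
      exact Submodule.smul_mem_smul (hmax _ ((he q').2 q (Ne.symm (Finset.ne_of_mem_erase hq')))) Submodule.mem_top
  choose W hWV hW hWb using fun q => exists_isBas_of_stalk hE mm (hyV q) (hmm q)
  let U : Y.Opens := ⨆ q, W q
  have hUV : U ≤ V := iSup_le hWV
  refine ⟨U, fun z hz => ?_, hUV, ?_⟩
  · exact Opens.mem_iSup.2 ⟨⟨P ⟨z, hz⟩, ⟨z, hz⟩, rfl⟩, (hPz ⟨z, hz⟩).mem_open (W _).2 (hW _)⟩
  · refine nonempty_restrict_iso_free (e := fun i => M1.mres E hUV (mm i)) (isBas_of_stalk fun y hy => ?_)
    obtain ⟨q, hq⟩ := Opens.mem_iSup.1 hy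
    have := (hWb q).stalk hq
    simp only [germ_mres] at this ⊢
    exact this

end Groth.Agent.ResDesc11
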